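import Mathlib

/-!
# Local closed embeddings of finite type algebras into standard smooth algebras of minimal dimension
-/

universe u

open scoped TensorProduct

namespace Groth.Agent.SmoothEmb18

variable {A B : Type u} [CommRing A] [CommRing B] [Algebra A B]

theorem exists_injective_det_ne_zero {K : Type u} [Field K] {c n : ℕ} (M : Matrix (Fin c) (Fin n) K)
    (h : LinearIndependent K M.row) :
    ∃ a : Fin c → Fin n, Function.Injective a ∧ (M.submatrix id a).det ≠ 0 := by
  classical
  have hspan : Submodule.span K (Set.range M.col) = ⊤ := by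
    apply Submodule.eq_top_of_finrank_eq
    rw [← Matrix.range_mulVecLin, ← Matrix.rank, h.rank_matrix, Module.finrank_fintype_fun_eq_card]
  obtain ⟨b, hb, hbspan, hbli⟩ := exists_linearIndependent K (Set.range M.col)
  haveI : Fintype b := ((Set.finite_range M.col).subset hb).fintype
  have hcard : Fintype.card b = c := by
    rw [hspan] at hbspan
    have := finrank_span_eq_card hbli
    rw [Subtype.range_coe, hbspan, finrank_top, Module.finrank_fintype_fun_eq_card, Fintype.card_fin] at this
    exact this.symm
  let e : Fin c ≃ b := (Fintype.equivFinOfCardEq hcard).symm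
  choose a ha using fun j : Fin c => hb (e j).2
  refine ⟨a, fun i j hij => e.injective (Subtype.ext ?_), ?_⟩
  · rw [← ha i, ← ha j, hij]
  · have hcol : LinearIndependent K (M.submatrix id a).col := by
      have : (M.submatrix id a).col = fun j => ((e j : b) : Fin c → K) := funext fun j => by
        rw [← ha j]; rfl
      rw [this]
      exact hbli.comp e e.injective
    exact ((Matrix.isUnit_iff_isUnit_det _).1 (Matrix.linearIndependent_cols_iff_isUnit.1 hcol)).ne_zero

variable {n : ℕ} (φ : MvPolynomial (Fin n) A →ₐ[A] B)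

/-- The Jacobian row of a polynomial in the residue field. -/
noncomputable def jac (q : Ideal B) [q.IsPrime] (p : MvPolynomial (Fin n) A) : Fin n → q.ResidueField :=
  fun i => algebraMap B q.ResidueField (φ (MvPolynomial.pderiv i p))

variable (q : Ideal B) [q.IsPrime]

theorem jac_add (p p' : MvPolynomial (Fin n) A) : jac φ q (p + p') = jac φ q p + jac φ q p' :=
  funext fun i => by simp [jac]

theorem jac_mul (p p' : MvPolynomial (Fin n) A) : jac φ q (p * p') =
    algebraMap B q.ResidueField (φ p) • jac φ q p' + algebraMap B q.ResidueField (φ p') • jac φ q p :=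
  funext fun i => by
    simp only [jac, MvPolynomial.pderiv_mul, map_add, map_mul, Pi.add_apply, Pi.smul_apply, smul_eq_mul]
    ring

theorem finrank_span_jac (hφ : Function.Surjective φ) :
    Module.finrank q.ResidueField (Submodule.span q.ResidueField (jac φ q '' (RingHom.ker φ : Set (MvPolynomial (Fin n) A)))) +
      Module.finrank q.ResidueField (q.ResidueField ⊗[B] Ω[B⁄A]) = n := by
  classical
  let κ := q.ResidueField
  let V := Submodule.span κ (jac φ q '' (RingHom.ker φ : Set (MvPolynomial (Fin n) A)))
  let θ : (Fin n → κ) →ₗ[κ] κ ⊗[B] Ω[B⁄A] :=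
    Fintype.linearCombination κ fun i => (1 : κ) ⊗ₜ[B] KaehlerDifferential.D A B (φ (MvPolynomial.X i))
  have hθ : ∀ p, θ (jac φ q p) = (1 : κ) ⊗ₜ[B] KaehlerDifferential.D A B (φ p) := by
    intro p
    induction p using MvPolynomial.induction_on with
    | C a => simp [θ, jac, Fintype.linearCombination_apply]
    | add p p' hp hp' => rw [jac_add, map_add, hp, hp', map_add, map_add, TensorProduct.tmul_add]
    | mul_X p i hp =>
      have hX : θ (jac φ q (MvPolynomial.X i)) = (1 : κ) ⊗ₜ[B] KaehlerDifferential.D A B (φ (MvPolynomial.X i)) := by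
        simp [θ, jac, Fintype.linearCombination_apply, MvPolynomial.pderiv_X, Pi.single_apply, apply_ite]
      rw [jac_mul, map_add, map_smul, map_smul, hp, hX, map_mul, Derivation.leibniz, TensorProduct.tmul_add]
      congr 1 <;> rw [algebraMap_smul, TensorProduct.tmul_smul]
  let W := (Fin n → κ) ⧸ V
  have hwd : ∀ p p', φ p = φ p' → V.mkQ (jac φ q p) = V.mkQ (jac φ q p') := by
    intro p p' h
    rw [Submodule.mkQ_apply, Submodule.mkQ_apply, Submodule.Quotient.eq]
    have : jac φ q (p - p') = jac φ q p - jac φ q p' := funext fun i => by simp [jac]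
    rw [← this]
    exact Submodule.subset_span ⟨p - p', by simp [h], rfl⟩
  choose σ hσ using hφ
  let δ : Derivation A B W :=
    { toFun := fun b => V.mkQ (jac φ q (σ b))
      map_add' := fun b b' => by
        rw [← map_add, ← jac_add]
        exact hwd _ _ (by simp [hσ])
      map_smul' := fun a b => by
        rw [RingHom.id_apply, hwd (σ (a • b)) (MvPolynomial.C a * σ b) (by simp [hσ, Algebra.smul_def]), jac_mul]
        have : jac φ q (MvPolynomial.C a) = 0 := funext fun i => by simp [jac]
        rw [this, smul_zero, add_zero, map_smul]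
        rw [show φ (MvPolynomial.C a) = algebraMap A B a from φ.commutes a, algebraMap_smul, algebraMap_smul]
      map_one_eq_zero' := by
        show V.mkQ (jac φ q (σ 1)) = 0
        rw [hwd (σ 1) 1 (by simp [hσ])]
        have : jac φ q (1 : MvPolynomial (Fin n) A) = 0 := funext fun i => by simp [jac]
        rw [this, map_zero]
      leibniz' := fun b b' => by
        show V.mkQ (jac φ q (σ (b * b'))) = b • V.mkQ (jac φ q (σ b')) + b' • V.mkQ (jac φ q (σ b))
        rw [hwd (σ (b * b')) (σ b * σ b') (by simp [hσ]), jac_mul, map_add, map_smul, map_smul, hσ, hσ,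
          algebraMap_smul, algebraMap_smul] }
  let ψ : κ ⊗[B] Ω[B⁄A] →ₗ[κ] W := δ.liftKaehlerDifferential.liftBaseChange κ
  have hψ : ψ.comp θ = V.mkQ := by
    refine LinearMap.pi_ext' fun i => LinearMap.ext_ring ?_
    have h1 : θ (Pi.single i 1) = (1 : κ) ⊗ₜ[B] KaehlerDifferential.D A B (φ (MvPolynomial.X i)) := by
      simp [θ, Fintype.linearCombination_apply, Pi.single_apply]
    simp only [LinearMap.comp_apply, LinearMap.single_apply, h1, ψ, LinearMap.liftBaseChange_tmul, one_smul,
      Derivation.liftKaehlerDifferential_comp_D]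
    show V.mkQ (jac φ q (σ (φ (MvPolynomial.X i)))) = _
    rw [hwd _ (MvPolynomial.X i) (hσ _)]
    congr 1
    funext j
    simp [jac, MvPolynomial.pderiv_X, Pi.single_apply, apply_ite]
    split_ifs with h <;> [exact h.symm; exact Ne.symm h]
  have hker : LinearMap.ker θ = V := by
    refine le_antisymm (fun v hv => ?_) ?_
    · rw [← V.ker_mkQ, LinearMap.mem_ker, ← hψ, LinearMap.comp_apply, LinearMap.mem_ker.1 hv, map_zero]
    · rw [Submodule.span_le]
      rintro _ ⟨p, hp, rfl⟩
      rw [SetLike.mem_coe, LinearMap.mem_ker, hθ, RingHom.mem_ker.1 hp, map_zero, TensorProduct.tmul_zero]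
  have hsurj : LinearMap.range θ = ⊤ := by
    rw [eq_top_iff]
    rintro z -
    induction z using TensorProduct.induction_on with
    | zero => exact zero_mem _
    | add x y hx hy => exact add_mem hx hy
    | tmul c w =>
      have hw : ∀ w : Ω[B⁄A], (1 : κ) ⊗ₜ[B] w ∈ LinearMap.range θ := fun w => by
        have : w ∈ Submodule.span B (Set.range (KaehlerDifferential.D A B)) :=
          KaehlerDifferential.span_range_derivation A B ▸ Submodule.mem_top
        induction this using Submodule.span_induction with
        | mem w hw =>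
          obtain ⟨b, rfl⟩ := hw
          exact ⟨jac φ q (σ b), by rw [hθ, hσ]⟩
        | zero => rw [TensorProduct.tmul_zero]; exact zero_mem _
        | add x y _ _ hx hy => rw [TensorProduct.tmul_add]; exact add_mem hx hy
        | smul b x _ hx =>
          rw [TensorProduct.tmul_smul, ← algebraMap_smul κ b ((1 : κ) ⊗ₜ[B] x)]
          exact Submodule.smul_mem _ _ hx
      rw [show c ⊗ₜ[B] w = c • ((1 : κ) ⊗ₜ[B] w) by rw [TensorProduct.smul_tmul', smul_eq_mul, mul_one]]
      exact Submodule.smul_mem _ _ (hw w)
  have := θ.finrank_range_add_finrank_ker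
  rw [hker, hsurj, finrank_top, Module.finrank_fintype_fun_eq_card, Fintype.card_fin] at this
  rw [add_comm]; exact this

theorem exists_embedding [Algebra.FiniteType A B] (r : ℕ)
    (hr : Module.finrank q.ResidueField (q.ResidueField ⊗[B] Ω[B⁄A]) = r) :
    ∃ g : B, g ∉ q ∧ ∃ (D : Type u) (_ : CommRing D) (_ : Algebra A D),
      Algebra.IsStandardSmoothOfRelativeDimension r A D ∧
        ∃ ψ : D →ₐ[A] Localization.Away g, Function.Surjective ψ := by
  classical
  obtain ⟨n, φ, hφ⟩ := Algebra.FiniteType.iff_quotient_mvPolynomial''.1 ‹Algebra.FiniteType A B›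
  have hn := finrank_span_jac φ q hφ
  rw [hr] at hn
  obtain ⟨b, hb, hbspan, hbli⟩ := exists_linearIndependent q.ResidueField
    (jac φ q '' (RingHom.ker φ : Set (MvPolynomial (Fin n) A)))
  haveI : Fintype b := @Fintype.ofFinite _ hbli.finite_of_isNoetherian
  obtain ⟨c, hc⟩ : ∃ c, Fintype.card b = c := ⟨_, rfl⟩
  have hcr : c + r = n := by
    rw [← hn, ← hc, ← hbspan]
    congr 1
    have := finrank_span_eq_card hbli
    rw [Subtype.range_coe] at this
    exact this.symm
  let e : Fin c ≃ b := (Fintype.equivFinOfCardEq hc).symm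
  choose v hvI hv using fun j : Fin c => hb (e j).2
  let M : Matrix (Fin c) (Fin n) q.ResidueField := fun j i => jac φ q (v j) i
  have hM : LinearIndependent q.ResidueField M.row := by
    have : M.row = fun j => ((e j : b) : Fin n → q.ResidueField) := funext fun j => hv j
    rw [this]
    exact hbli.comp e e.injective
  obtain ⟨a, ha, hdet⟩ := exists_injective_det_ne_zero M hM
  let R := MvPolynomial (Fin n) A ⧸ Ideal.span (Set.range v)
  let N : Algebra.PreSubmersivePresentation A R (Fin n) (Fin c) := Algebra.PreSubmersivePresentation.naive a ha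
  have hvk : ∀ x ∈ Ideal.span (Set.range v), φ x = 0 := fun x hx =>
    RingHom.mem_ker.1 ((Ideal.span_le (I := RingHom.ker φ)).2 (by rintro _ ⟨j, rfl⟩; exact hvI j) hx)
  let φ₀ : R →ₐ[A] B := Ideal.Quotient.liftₐ _ φ hvk
  have hφ₀ : ∀ x, φ₀ (Ideal.Quotient.mk _ x) = φ x := fun _ => rfl
  have hj : algebraMap B q.ResidueField (φ₀ N.jacobian) = (M.submatrix id a).det := by
    rw [N.jacobian_eq_jacobiMatrix_det]
    change algebraMap B q.ResidueField (φ₀ (Ideal.Quotient.mk _ _)) = _
    rw [hφ₀, AlgHom.map_det, RingHom.map_det, ← Matrix.det_transpose]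
    congr 1
    ext i j
    simp only [Matrix.transpose_apply, RingHom.mapMatrix_apply, AlgHom.mapMatrix_apply, Matrix.map_apply,
      Matrix.submatrix_apply, id_eq]
    rw [Algebra.PreSubmersivePresentation.jacobiMatrix_naive]
    rfl
  refine ⟨φ₀ N.jacobian, fun hg => hdet (hj ▸ Ideal.algebraMap_residueField_eq_zero.2 hg), ?_⟩
  let D := Localization.Away N.jacobian
  let S' : Algebra.SubmersivePresentation A D (Unit ⊕ Fin n) (Unit ⊕ Fin c) :=
    { toPreSubmersivePresentation :=
        (Algebra.PreSubmersivePresentation.localizationAway D N.jacobian).comp N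
      jacobian_isUnit := by
        rw [Algebra.PreSubmersivePresentation.comp_jacobian_eq_jacobian_smul_jacobian,
          Algebra.smul_def, Algebra.PreSubmersivePresentation.localizationAway_jacobian,
          IsUnit.mul_iff]
        exact ⟨IsLocalization.Away.algebraMap_isUnit _, IsLocalization.Away.algebraMap_isUnit _⟩ }
  refine ⟨D, inferInstance, inferInstance, S'.isStandardSmoothOfRelativeDimension ?_, ?_⟩
  · show Nat.card (Unit ⊕ Fin n) - Nat.card (Unit ⊕ Fin c) = r
    simp only [Nat.card_eq_fintype_card, Fintype.card_sum, Fintype.card_unit, Fintype.card_fin]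
    omega
  · let f : R →ₐ[A] Localization.Away (φ₀ N.jacobian) :=
      (IsScalarTower.toAlgHom A B (Localization.Away (φ₀ N.jacobian))).comp φ₀
    have hu : ∀ y : Submonoid.powers N.jacobian, IsUnit (f y) := by
      rintro ⟨_, m, rfl⟩
      rw [map_pow]
      exact (IsLocalization.Away.algebraMap_isUnit (φ₀ N.jacobian)).pow m
    let ψ : D →ₐ[A] Localization.Away (φ₀ N.jacobian) := IsLocalization.liftAlgHom (M := Submonoid.powers N.jacobian) hu
    have hψ : ∀ m : R, ψ (algebraMap R D m) = f m := fun m => IsLocalization.lift_eq _ m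
    refine ⟨ψ, fun z => ?_⟩
    obtain ⟨⟨x, ⟨_, m, rfl⟩⟩, hz⟩ := IsLocalization.surj (Submonoid.powers (φ₀ N.jacobian)) z
    obtain ⟨p, rfl⟩ := hφ x
    refine ⟨algebraMap R D (Ideal.Quotient.mk _ p) * IsLocalization.Away.invSelf N.jacobian ^ m, ?_⟩
    have h1 : algebraMap B (Localization.Away (φ₀ N.jacobian)) (φ₀ N.jacobian) * ψ (IsLocalization.Away.invSelf N.jacobian) = 1 := by
      rw [show algebraMap B (Localization.Away (φ₀ N.jacobian)) (φ₀ N.jacobian) = ψ (algebraMap R D N.jacobian) from (hψ _).symm,
        ← map_mul, IsLocalization.Away.mul_invSelf, map_one]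
    rw [map_mul, map_pow, hψ, show f (Ideal.Quotient.mk _ p) = algebraMap B _ (φ p) from rfl, ← hz, map_pow, mul_assoc,
      ← mul_pow, h1, one_pow, mul_one]

end Groth.Agent.SmoothEmb18
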